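import Cfsg.Agent.Lib.J4Pres.Bound.CertData

/-! Kernel checks of the double coset enumeration. -/

set_option autoImplicit false
set_option maxRecDepth 100000
set_option maxHeartbeats 0

namespace Cfsg.Agent.J4Bound.Check

open Cfsg.Agent.PermCert

theorem items1 : okItems cert 235 235 = true := by decide +kernel

end Cfsg.Agent.J4Bound.Check
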