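import Cfsg.Agent.Lib.J4Pres.Bound.CertData
import Cfsg.Agent.Lib.J4Pres.Bound.Cover
import Cfsg.Agent.Lib.J4Pres.Bound.Data.Table
import Cfsg.Agent.Lib.J4Pres.Bound.Data.Levels
import Cfsg.Agent.Lib.J4Pres.Bound.Data.Visits0
import Cfsg.Agent.Lib.J4Pres.Bound.Data.Visits1

/-! Kernel checks of the double coset enumeration. -/

set_option autoImplicit false
set_option maxRecDepth 100000
set_option maxHeartbeats 0

namespace Cfsg.Agent.J4Bound.Check

open Cfsg.Agent.PermCert

theorem cover0 : okCover cert Data.table 3795 1874 20 0 Data.visits0 = true := by decide +kernel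

theorem levels0 : okLevels cert 1874 0 [] Data.levels0 = true := by decide +kernel

theorem cover1 : okCover cert Data.table 3795 1874 20 1 Data.visits1 = true := by decide +kernel

theorem levels1 : okLevels cert 1874 1 [] Data.levels1 = true := by decide +kernel

theorem cover2 : okCover cert Data.table 3795 1874 20 2 Data.visits2 = true := by decide +kernel

theorem levels2 : okLevels cert 1874 2 [] Data.levels2 = true := by decide +kernel

theorem cover3 : okCover cert Data.table 3795 1874 20 3 Data.visits3 = true := by decide +kernel

theorem levels3 : okLevels cert 1874 3 [] Data.levels3 = true := by decide +kernel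

end Cfsg.Agent.J4Bound.Check
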