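import Cfsg.Agent.Lib.J4Pres.Bound.CertData
import Cfsg.Agent.Lib.J4Pres.Bound.Cover
import Cfsg.Agent.Lib.J4Pres.Bound.Data.Table
import Cfsg.Agent.Lib.J4Pres.Bound.Data.Levels
import Cfsg.Agent.Lib.J4Pres.Bound.Data.Visits2
import Cfsg.Agent.Lib.J4Pres.Bound.Data.Visits3

/-! Kernel checks of the double coset enumeration. -/

set_option autoImplicit false
set_option maxRecDepth 100000
set_option maxHeartbeats 0

namespace Cfsg.Agent.J4Bound.Check

open Cfsg.Agent.PermCert

theorem cover4 : okCover cert Data.table 3795 1874 20 4 Data.visits4 = true := by decide +kernel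

theorem levels4 : okLevels cert 1874 4 [] Data.levels4 = true := by decide +kernel

theorem cover5 : okCover cert Data.table 3795 1874 20 5 Data.visits5 = true := by decide +kernel

theorem levels5 : okLevels cert 1874 5 [] Data.levels5 = true := by decide +kernel

theorem cover6 : okCover cert Data.table 3795 1874 20 6 Data.visits6 = true := by decide +kernel

theorem levels6 : okLevels cert 1874 6 [] Data.levels6 = true := by decide +kernel

theorem cover7 : okCover cert Data.table 3795 1874 20 7 Data.visits7 = true := by decide +kernel

theorem levels7 : okLevels cert 1874 7 [] Data.levels7 = true := by decide +kernel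

end Cfsg.Agent.J4Bound.Check
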