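import Cfsg.Agent.Lib.J4Pres.Bound.CertData
import Cfsg.Agent.Lib.J4Pres.Bound.Cover
import Cfsg.Agent.Lib.J4Pres.Bound.Data.Table
import Cfsg.Agent.Lib.J4Pres.Bound.Data.Levels
import Cfsg.Agent.Lib.J4Pres.Bound.Data.Visits4
import Cfsg.Agent.Lib.J4Pres.Bound.Data.Visits5

/-! Kernel checks of the double coset enumeration. -/

set_option autoImplicit false
set_option maxRecDepth 100000
set_option maxHeartbeats 0

namespace Cfsg.Agent.J4Bound.Check

open Cfsg.Agent.PermCert

theorem cover8 : okCover cert Data.table 3795 1874 20 8 Data.visits8 = true := by decide +kernel

theorem levels8 : okLevels cert 1874 8 [] Data.levels8 = true := by decide +kernel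

theorem cover9 : okCover cert Data.table 3795 1874 20 9 Data.visits9 = true := by decide +kernel

theorem levels9 : okLevels cert 1874 9 [] Data.levels9 = true := by decide +kernel

theorem cover10 : okCover cert Data.table 3795 1874 20 10 Data.visits10 = true := by decide +kernel

theorem levels10 : okLevels cert 1874 10 [] Data.levels10 = true := by decide +kernel

theorem cover11 : okCover cert Data.table 3795 1874 20 11 Data.visits11 = true := by decide +kernel

theorem levels11 : okLevels cert 1874 11 [] Data.levels11 = true := by decide +kernel

end Cfsg.Agent.J4Bound.Check
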