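import Cfsg.Agent.Lib.J4Pres.Bound.CertData
import Cfsg.Agent.Lib.J4Pres.Bound.Cover
import Cfsg.Agent.Lib.J4Pres.Bound.Data.Table
import Cfsg.Agent.Lib.J4Pres.Bound.Data.Levels
import Cfsg.Agent.Lib.J4Pres.Bound.Data.Visits6
import Cfsg.Agent.Lib.J4Pres.Bound.Data.Visits7

/-! Kernel checks of the double coset enumeration. -/

set_option autoImplicit false
set_option maxRecDepth 100000
set_option maxHeartbeats 0

namespace Cfsg.Agent.J4Bound.Check

open Cfsg.Agent.PermCert

theorem cover12 : okCover cert Data.table 3795 1874 20 12 Data.visits12 = true := by decide +kernel

theorem levels12 : okLevels cert 1874 12 [] Data.levels12 = true := by decide +kernel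

theorem cover13 : okCover cert Data.table 3795 1874 20 13 Data.visits13 = true := by decide +kernel

theorem levels13 : okLevels cert 1874 13 [] Data.levels13 = true := by decide +kernel

theorem cover14 : okCover cert Data.table 3795 1874 20 14 Data.visits14 = true := by decide +kernel

theorem levels14 : okLevels cert 1874 14 [] Data.levels14 = true := by decide +kernel

theorem cover15 : okCover cert Data.table 3795 1874 20 15 Data.visits15 = true := by decide +kernel

theorem levels15 : okLevels cert 1874 15 [] Data.levels15 = true := by decide +kernel

end Cfsg.Agent.J4Bound.Check
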