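import Cfsg.Agent.Lib.J4Pres.Bound.CertData
import Cfsg.Agent.Lib.J4Pres.Bound.Cover
import Cfsg.Agent.Lib.J4Pres.Bound.Data.Table
import Cfsg.Agent.Lib.J4Pres.Bound.Data.Levels
import Cfsg.Agent.Lib.J4Pres.Bound.Data.Visits8
import Cfsg.Agent.Lib.J4Pres.Bound.Data.Visits9

/-! Kernel checks of the double coset enumeration. -/

set_option autoImplicit false
set_option maxRecDepth 100000
set_option maxHeartbeats 0

namespace Cfsg.Agent.J4Bound.Check

open Cfsg.Agent.PermCert

theorem cover16 : okCover cert Data.table 3795 1874 20 16 Data.visits16 = true := by decide +kernel

theorem levels16 : okLevels cert 1874 16 [] Data.levels16 = true := by decide +kernel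

theorem cover17 : okCover cert Data.table 3795 1874 20 17 Data.visits17 = true := by decide +kernel

theorem levels17 : okLevels cert 1874 17 [] Data.levels17 = true := by decide +kernel

theorem cover18 : okCover cert Data.table 3795 1874 20 18 Data.visits18 = true := by decide +kernel

theorem levels18 : okLevels cert 1874 18 [] Data.levels18 = true := by decide +kernel

theorem cover19 : okCover cert Data.table 3795 1874 20 19 Data.visits19 = true := by decide +kernel

theorem levels19 : okLevels cert 1874 19 [] Data.levels19 = true := by decide +kernel

end Cfsg.Agent.J4Bound.Check
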