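import Cfsg.Agent.Lib.J4Pres.Bound.TransRows

/-!
Kernel checks for the table of conjugates of the translation.
-/

set_option autoImplicit false
set_option maxRecDepth 100000
set_option maxHeartbeats 0

namespace Cfsg.Agent.J4Bound.Trans

open Cfsg.Agent.PermCert

theorem rows0 : allBelow (fun i => okRow i) 443 = true := by decide +kernel

end Cfsg.Agent.J4Bound.Trans
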