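import Cfsg.Agent.Lib.J4Pres.Bound.TransRows

/-!
Kernel checks for the table of conjugates of the translation.
-/

set_option autoImplicit false
set_option maxRecDepth 100000
set_option maxHeartbeats 0

namespace Cfsg.Agent.J4Bound.Trans

open Cfsg.Agent.PermCert

theorem deds1 : runDeds (Data.transDeds2 ++ Data.transDeds3) 7283252739967467989882201154845266602123214143494064694783878389270242607381598148957609636208033157754715988730735931896884426709050752449561023233999798699452869469248220557326562356044143042488734197065618350441236585208859166882312221598656079510635735968127291190010798415452711743467062309130783777211001432972846083457916652771207270166211478755947320743275004164400461405601944312292106162107379120893265864976639927721731718705351324319933105917789739326004875229992012847294832216170933078658239650868669534948443721139575 = some (2 ^ 1771 - 1) := by decide +kernel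

theorem row0 : rep? 0 = some J4Bound.cone := by decide +kernel

theorem basis_len : Data.transBasis.length = 11 ∧ ∀ i ∈ Data.transBasis, i < 1771 := by decide +kernel

end Cfsg.Agent.J4Bound.Trans
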